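import Groth.Agent.CAlgFib.Basic
import Mathlib.RingTheory.Ideal.MinimalPrime.Colon

/-!
# Associated primes of a fibre module below a point
-/

set_option autoImplicit false
set_option linter.style.haveILetI false
set_option linter.unusedSectionVars false
set_option backward.isDefEq.respectTransparency false

universe u

open TensorProduct

noncomputable section

namespace Groth.Agent.FibAssLib

open Groth.Agent.CAlgFib

variable {R S : Type u} [CommRing R] [CommRing S] [Algebra R S] (p : Ideal R) [p.IsPrime]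
variable (N : Type u) [AddCommGroup N] [Module S N] [Module R N] [IsScalarTower R S N]

theorem eq_fiberIdeal_of_comap {P : Ideal (p.Fiber S)} [P.IsPrime] {q : Ideal S} (h : P.comap (ι p) = q) :
    FlatCA.fiberIdeal p q = P := by
  refine le_antisymm (Ideal.map_le_iff_le_comap.mpr h.ge) fun t ht => ?_
  obtain ⟨b, hb, s, hs⟩ := exists_factor p t
  refine (Ideal.unit_mul_mem_iff_mem _ (ι_isUnit (S := S) p hb)).mp ?_
  rw [hs]
  refine Ideal.mem_map_of_mem _ ?_
  rw [← h, Ideal.mem_comap]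
  exact hs ▸ P.mul_mem_left _ ht

theorem comap_liesOver (P : Ideal (p.Fiber S)) [P.IsPrime] : (P.comap (ι p)).LiesOver p :=
  ⟨(congrArg PrimeSpectrum.asIdeal
    ((PrimeSpectrum.preimageEquivFiber R S ⟨p, ‹_›⟩).symm ⟨P, ‹_›⟩).2).symm⟩

theorem fiberIdeal_spec (q : Ideal S) [q.IsPrime] [q.LiesOver p] :
    (FlatCA.fiberIdeal p q).IsPrime ∧ (FlatCA.fiberIdeal p q).comap (ι p) = q := by
  let e := PrimeSpectrum.preimageEquivFiber R S ⟨p, ‹_›⟩
  let x : PrimeSpectrum.comap (algebraMap R S) ⁻¹' {(⟨p, ‹_›⟩ : PrimeSpectrum R)} :=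
    ⟨⟨q, ‹_›⟩, PrimeSpectrum.ext (Ideal.LiesOver.over (p := p) (P := q)).symm⟩
  have h : (e x).asIdeal.comap (ι p) = q :=
    congrArg (fun y : PrimeSpectrum.comap (algebraMap R S) ⁻¹' {(⟨p, ‹_›⟩ : PrimeSpectrum R)} => y.1.asIdeal)
      (e.symm_apply_apply x)
  haveI := (e x).2
  rw [eq_fiberIdeal_of_comap p h]
  exact ⟨inferInstance, h⟩

instance isNoetherianRing_fiber [Algebra.EssFiniteType R S] : IsNoetherianRing (p.Fiber S) :=
  Algebra.EssFiniteType.isNoetherianRing p.ResidueField (p.Fiber S)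

instance finite_fiberMod [Module.Finite S N] : Module.Finite (p.Fiber S) (FlatCA.fiberMod p S N) := by
  letI := (Algebra.TensorProduct.includeRight (R := R) (A := p.ResidueField) (B := S)).toRingHom.toAlgebra
  exact Module.Finite.base_change S (p.Fiber S) N

/-- The associated primes of the fibre below a point. -/
def assBelow (q : Ideal S) : Set (Ideal (p.Fiber S)) :=
  {P | P ∈ associatedPrimes (p.Fiber S) (FlatCA.fiberMod p S N) ∧ P ≤ FlatCA.fiberIdeal p q}

variable [IsNoetherianRing (p.Fiber S)] (q : Ideal S) [q.IsPrime] [q.LiesOver p]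

theorem exists_assBelow_of_colon_le (y : FlatCA.fiberMod p S N)
    (h : (⊥ : Submodule (p.Fiber S) (FlatCA.fiberMod p S N)).colon {y} ≤ FlatCA.fiberIdeal p q) :
    ∃ P ∈ assBelow p N q, (⊥ : Submodule (p.Fiber S) (FlatCA.fiberMod p S N)).colon {y} ≤ P := by
  haveI := (fiberIdeal_spec p q).1
  obtain ⟨P, hP, hPq⟩ := Ideal.exists_minimalPrimes_le h
  obtain ⟨y', hy'⟩ := Submodule.exists_eq_colon_of_mem_minimalPrimes hP
  exact ⟨P, ⟨isAssociatedPrime_iff.mpr ⟨hP.1.1, y', hy'⟩, hPq⟩, hP.1.2⟩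

/-- An element avoiding the associated primes of the fibre below `q` is regular there. -/
theorem regular_mod {s : S} (hs : ∀ P ∈ assBelow p N q, ι p s ∉ P) (x : N) {c : S} (hc : c ∉ q)
    (hx : c • s • x ∈ p.map (algebraMap R S) • (⊤ : Submodule S N)) :
    ∃ d ∉ q, d • x ∈ p.map (algebraMap R S) • (⊤ : Submodule S N) := by
  have hq : ∀ r ∉ p, algebraMap R S r ∉ q := fun r hr h => hr (by
    rw [Ideal.LiesOver.over (p := p) (P := q)]; exact h)
  obtain ⟨hQ, hQc⟩ := fiberIdeal_spec p q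
  let y := FlatCA.toFiberMod (S := S) p (N := N) x
  by_cases h : (⊥ : Submodule (p.Fiber S) (FlatCA.fiberMod p S N)).colon {y} ≤ FlatCA.fiberIdeal p q
  · obtain ⟨P, hP, hle⟩ := exists_assBelow_of_colon_le p N q y h
    have hcs : ι p (c * s) ∈ P := hle (by
      rw [Submodule.mem_colon_singleton, Submodule.mem_bot, ← smul_eq, ← map_smul,
        toFiberMod_eq_zero_iff]
      exact ⟨1, (Ideal.ne_top_iff_one p).mp (Ideal.IsPrime.ne_top ‹_›), by rw [map_one, one_smul, mul_smul]; exact hx⟩)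
    rw [map_mul] at hcs
    rcases hP.1.1.mem_or_mem hcs with h1 | h1
    · exact absurd (hP.2 h1) fun h2 => hc (by rw [← hQc]; exact h2)
    · exact absurd h1 (hs P hP)
  · obtain ⟨t, ht, htq⟩ := SetLike.not_le_iff_exists.mp h
    obtain ⟨b, hb, d, hd⟩ := exists_factor p t
    have hdq : d ∉ q := fun h => htq ((Ideal.unit_mul_mem_iff_mem _ (ι_isUnit (S := S) p hb)).mp (by
      rw [hd]; exact Ideal.mem_map_of_mem _ h))
    have h0 : FlatCA.toFiberMod (S := S) p (N := N) (d • x) = 0 := by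
      rw [map_smul, smul_eq, ← hd, mul_smul, show t • FlatCA.toFiberMod (S := S) p (N := N) x = 0 from
        Submodule.mem_colon_singleton.mp ht |> (Submodule.mem_bot _).mp, smul_zero]
    obtain ⟨r, hr, hrd⟩ := (toFiberMod_eq_zero_iff p N _).mp h0
    exact ⟨algebraMap R S r * d, fun hh => (Ideal.IsPrime.mem_or_mem ‹_› hh).elim (hq r hr) hdq, by
      rwa [mul_smul]⟩

/-- Prime avoidance against the associated primes of the fibre below `q`. -/
theorem exists_mem_regular [Module.Finite S N] (I : Ideal S)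
    (hI : ∀ P ∈ assBelow p N q, ¬ I ≤ P.comap (ι p)) : ∃ s ∈ I, ∀ P ∈ assBelow p N q, ι p s ∉ P := by
  classical
  have hfin : (assBelow p N q).Finite :=
    (associatedPrimes.finite (p.Fiber S) (FlatCA.fiberMod p S N)).subset fun _ h => h.1
  by_contra hcon
  push Not at hcon
  let B := hfin.toFinset.image (Ideal.comap (ι p))
  have hsub : (I : Set S) ⊆ ⋃ b ∈ (B : Set (Ideal S)), (b : Set S) := fun s hs => by
    obtain ⟨P, hP, hsP⟩ := hcon s hs
    exact Set.mem_biUnion (Finset.mem_image_of_mem _ (hfin.mem_toFinset.mpr hP)) hsP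
  obtain ⟨b, hb, hIb⟩ := (Ideal.subset_union_prime ⊥ ⊥ fun b hb _ _ => by
    obtain ⟨P, hP, rfl⟩ := Finset.mem_image.mp hb
    exact (hfin.mem_toFinset.mp hP).1.1.comap (ι p)).mp hsub
  obtain ⟨P, hP, rfl⟩ := Finset.mem_image.mp hb
  exact hI P (hfin.mem_toFinset.mp hP) hIb

end Groth.Agent.FibAssLib
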