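import Groth.Agent.FibAssLib.Core

/-!
# Detecting vanishing at the associated points of fibres
-/

set_option autoImplicit false
set_option linter.style.haveILetI false
set_option linter.unusedSectionVars false
set_option maxHeartbeats 1000000
set_option backward.isDefEq.respectTransparency false

universe u

open TensorProduct

noncomputable section

namespace Groth.Agent.FibAssLib

/-- A flat extension detects vanishing at the primes it meets. -/
theorem exists_smul_eq_zero_of_one_tmul {S S' G : Type u} [CommRing S] [CommRing S'] [Algebra S S'] [Module.Flat S S']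
    [AddCommGroup G] [Module S G] {z : G} (hz : (1 : S') ⊗ₜ[S] z = 0) (q' : Ideal S') [q'.IsPrime] :
    ∃ t ∉ q'.comap (algebraMap S S'), t • z = 0 := by
  by_contra hcon
  push Not at hcon
  let ℓ := LinearMap.toSpanSingleton S G z
  have hle : Ideal.map (algebraMap S S') (LinearMap.ker ℓ) ≤ q' :=
    Ideal.map_le_iff_le_comap.mpr fun s hs => by_contra fun h => hcon s h hs
  obtain ⟨w, hw⟩ := (Module.Flat.lTensor_exact S' (LinearMap.exact_subtype_ker_map ℓ) ((1 : S') ⊗ₜ[S] (1 : S))).mp (by
    rw [LinearMap.lTensor_tmul, LinearMap.toSpanSingleton_apply, one_smul, hz])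
  have key : ∀ w : S' ⊗[S] LinearMap.ker ℓ,
      TensorProduct.rid S S' ((LinearMap.ker ℓ).subtype.lTensor S' w) ∈ Ideal.map (algebraMap S S') (LinearMap.ker ℓ) := by
    intro w
    induction w using TensorProduct.induction_on with
    | zero => simp
    | tmul a b =>
      rw [LinearMap.lTensor_tmul, TensorProduct.rid_tmul, Submodule.subtype_apply, Algebra.smul_def]
      exact Ideal.mul_mem_right _ _ (Ideal.mem_map_of_mem _ b.2)
    | add a b ha hb => simp only [map_add]; exact add_mem ha hb
  have h1 := key w
  rw [hw, TensorProduct.rid_tmul, one_smul] at h1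
  exact (Ideal.ne_top_iff_one q').mp (Ideal.IsPrime.ne_top ‹_›) (hle h1)

variable {R S N : Type u} [CommRing R] [CommRing S] [Algebra R S] [Algebra.FiniteType R S] [AddCommGroup N]
  [Module S N] [Module R N] [IsScalarTower R S N] [Module.Finite S N]

theorem flatAt_of_flat [Module.Flat R N] (q : Ideal S) [q.IsPrime] : FlatCA.FlatAt R q N := by
  show Module.Flat R (LocalizedModule q.primeCompl N)
  haveI : IsLocalizedModule (⊥ : Submonoid S) (LinearMap.id : N →ₗ[S] N) :=
    { map_units := fun t => by rw [Submonoid.mem_bot.mp t.2, map_one]; exact isUnit_one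
      surj := fun y => ⟨⟨y, 1⟩, by rw [one_smul]; rfl⟩
      exists_of_eq := fun h => ⟨1, by simpa using h⟩ }
  exact FlatLocus.flat_localized_of_le ⊥ q.primeCompl bot_le LinearMap.id (LocalizedModule.mkLinearMap q.primeCompl N)

/-- An element killed at every associated point of every fibre vanishes. -/
theorem eq_zero_of_ass [Module.Flat R N] {Q : Type u} [AddCommGroup Q] [Module R Q] {z : N ⊗[R] Q}
    (h : ∀ (p : Ideal R) [p.IsPrime] (P : Ideal (p.Fiber S)),
      P ∈ associatedPrimes (p.Fiber S) (FlatCA.fiberMod p S N) → ∃ t, CAlgFib.ι p t ∉ P ∧ t • z = 0) : z = 0 := by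
  by_contra hne
  obtain ⟨q, hq, hle⟩ := Ideal.exists_le_maximal (LinearMap.ker (LinearMap.toSpanSingleton S _ z))
    fun htop => hne (by
      have : (1 : S) ∈ LinearMap.ker (LinearMap.toSpanSingleton S (N ⊗[R] Q) z) := htop ▸ Submodule.mem_top
      simpa using this)
  let p := q.comap (algebraMap R S)
  haveI : q.LiesOver p := ⟨rfl⟩
  obtain ⟨d, hd, hdz⟩ := exists_smul_eq_zero_of_assBelow p q (flatAt_of_flat q) fun P hP => h p P hP.1
  exact hd (hle hdz)

/-- Covering the associated points by a flat algebra gives universal injectivity. -/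
theorem univInj_mk [Module.Flat R N] {S' : Type u} [CommRing S'] [Algebra S S'] [Algebra R S'] [IsScalarTower R S S']
    [Module.Flat S S']
    (h : ∀ (p : Ideal R) (q : Ideal S) [p.IsPrime] [q.IsPrime] [q.LiesOver p],
      FlatCA.fiberIdeal p q ∈ associatedPrimes (p.Fiber S) (FlatCA.fiberMod p S N) →
      ∃ q' : Ideal S', q'.IsPrime ∧ q'.comap (algebraMap S S') = q) :
    FlatCA.UnivInj R ((TensorProduct.mk S S' N 1).restrictScalars R) := by
  intro Q _ _
  rw [LinearMap.lTensor_inj_iff_rTensor_inj]
  rw [injective_iff_map_eq_zero]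
  intro z hz
  refine eq_zero_of_ass (S := S) fun p _ P hP => ?_
  haveI := hP.1
  haveI := comap_liesOver p P
  obtain ⟨q', hq', hq'c⟩ := h p (P.comap (CAlgFib.ι p)) (by rw [eq_fiberIdeal_of_comap p rfl]; exact hP)
  let a := AlgebraTensorModule.assoc R S S S' N Q
  have key : ∀ w : N ⊗[R] Q, a (((TensorProduct.mk S S' N 1).restrictScalars R).rTensor Q w) = (1 : S') ⊗ₜ[S] w := by
    intro w
    induction w using TensorProduct.induction_on with
    | zero => simp
    | tmul n c => simp [a]
    | add x y hx hy => rw [map_add, map_add, hx, hy, TensorProduct.tmul_add]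
  obtain ⟨t, ht, htz⟩ := exists_smul_eq_zero_of_one_tmul (S' := S') (z := z) (by rw [← key, hz, map_zero]) q'
  exact ⟨t, fun h => ht (by rw [hq'c]; exact h), htz⟩

end Groth.Agent.FibAssLib
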