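import Groth.Agent.S1208
import Groth.Agent.RGFlatLib.Fibre
import Groth.Agent.FibAssLib.Fibre

/-!
# Elements regular on a fibre act universally injectively
-/

set_option autoImplicit false
set_option linter.style.haveILetI false
set_option linter.unusedSectionVars false
set_option maxHeartbeats 1000000
set_option backward.isDefEq.respectTransparency false

universe u

open TensorProduct

noncomputable section

namespace Groth.Agent.FibAssLib

theorem isEssFP_of_essFP {R S : Type u} [CommRing R] [CommRing S] [Algebra R S] (h : FlatCA.EssFinitePresentation R S) :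
    CAlgX.IsEssFinitePresentation R S := by
  obtain ⟨S₀, i1, i2, i3, i4, T, h1, h2⟩ := h
  exact ⟨S₀, i1, i2, i3, i4, T, h1, h2⟩

/-- An element regular on the closed fibre is universally injective, with flat cokernel. -/
theorem smul_univInj_and_flat {R S N : Type u} [CommRing R] [CommRing S] [IsLocalRing R] [IsLocalRing S] [Algebra R S]
    [IsLocalHom (algebraMap R S)] (hS : CAlgX.IsEssFinitePresentation R S) [AddCommGroup N] [Module S N] [Module R N]
    [IsScalarTower R S N] [Module.FinitePresentation S N] [Module.Flat R N] (s : S)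
    (hs : ∀ x : N, s • x ∈ (IsLocalRing.maximalIdeal R).map (algebraMap R S) • (⊤ : Submodule S N) →
      x ∈ (IsLocalRing.maximalIdeal R).map (algebraMap R S) • (⊤ : Submodule S N))
    (Q : Type u) [AddCommGroup Q] [Module R Q] :
    Function.Injective (((LinearMap.lsmul S N s).restrictScalars R).rTensor Q) := by
  obtain ⟨hinj, hflat⟩ := EssFPLib.injective_and_flat_coker hS (LinearMap.lsmul S N s) hs
  haveI := hflat
  have h := LinearMap.lTensor_injective_of_exact_of_flat
    ((LinearMap.range (LinearMap.lsmul S N s)).mkQ.restrictScalars R) (Submodule.mkQ_surjective _)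
    ((LinearMap.lsmul S N s).restrictScalars R) hinj (LinearMap.exact_map_mkQ_range (LinearMap.lsmul S N s)) Q
  exact (LinearMap.lTensor_inj_iff_rTensor_inj _ _).mp h

section Localized

variable {R B M : Type u} [CommRing R] [CommRing B] [Algebra R B] [AddCommGroup M] [Module B M] [Module R M]
  [IsScalarTower R B M] (q : Ideal B) [q.IsPrime] [Module.Flat R (LocalizedModule q.primeCompl M)]
  [Module.FinitePresentation (Localization.AtPrime q) (LocalizedModule q.primeCompl M)]
  (p : Ideal R) [p.IsPrime] (hp : p = q.comap (algebraMap R B))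

include hp in
/-- An element regular on the fibre at `q` is universally injective at `q`. -/
theorem exists_smul_eq_zero_of_essFP
    (hBq : CAlgX.IsEssFinitePresentation R (Localization.AtPrime q)) (s : B)
    (hs : ∀ x c, c ∉ q → c • s • x ∈ p.map (algebraMap R B) • (⊤ : Submodule B M) →
      ∃ d ∉ q, d • x ∈ p.map (algebraMap R B) • (⊤ : Submodule B M))
    {Q : Type u} [AddCommGroup Q] [Module R Q] {z : M ⊗[R] Q} (hz : s • z = 0) : ∃ d ∉ q, d • z = 0 := by
  let T := q.primeCompl
  let S := Localization.AtPrime q
  let N := LocalizedModule T M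
  let Rp := Localization.AtPrime p
  letI : Algebra Rp S := (Localization.localRingHom p q (algebraMap R B) hp).toAlgebra
  haveI : IsScalarTower R Rp S := .of_algebraMap_eq fun r =>
    (Localization.localRingHom_to_map p q (algebraMap R B) hp r).symm
  haveI : IsLocalHom (algebraMap Rp S) :=
    Localization.isLocalHom_localRingHom p q (algebraMap R B) hp
  letI : Module Rp N := Module.compHom N (algebraMap Rp S)
  haveI : IsScalarTower Rp S N := .of_algebraMap_smul fun _ _ => rfl
  haveI : IsScalarTower R Rp N := .of_algebraMap_smul fun r x => by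
    show algebraMap Rp S (algebraMap R Rp r) • x = r • x
    rw [← IsScalarTower.algebraMap_apply R Rp S, IsScalarTower.algebraMap_apply R B S, algebraMap_smul, algebraMap_smul]
  haveI : Module.Flat Rp N := (Module.flat_iff_of_isLocalization Rp p.primeCompl N).mpr ‹_›
  have hS : CAlgX.IsEssFinitePresentation Rp S := EssFPLib.isEssFinitePresentation_of_tower (R := R)
    ⟨R, inferInstance, inferInstance, inferInstance, inferInstance, p.primeCompl, inferInstance, inferInstance⟩
    hBq
  let J : Ideal B := p.map (algebraMap R B)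
  have hJ : (IsLocalRing.maximalIdeal Rp).map (algebraMap Rp S) = J.map (algebraMap B S) := by
    rw [← IsLocalization.AtPrime.map_eq_maximalIdeal p Rp, Ideal.map_map, Ideal.map_map]
    congr 1
    exact RingHom.ext fun r => Localization.localRingHom_to_map p q (algebraMap R B) hp r
  have hinj := fun (Q' : Type u) [AddCommGroup Q'] [Module Rp Q'] =>
    smul_univInj_and_flat (N := N) hS (algebraMap B S s) (fun y hy => by
      rw [hJ] at hy ⊢
      obtain ⟨c, w, hcx⟩ := RGFlatLib.exists_rep T y
      have h1 : LocalizedModule.mkLinearMap T _ (s • w) ∈ J.map (algebraMap B S) • (⊤ : Submodule S N) := by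
        rw [map_smul, ← hcx, ← algebraMap_smul S s, smul_comm]
        exact Submodule.smul_mem _ _ hy
      obtain ⟨d, hd, h2⟩ := RGFlatLib.exists_smul_mem_of_mem_map T J h1
      obtain ⟨e, he, h3⟩ := hs w d hd h2
      have h4 := RGFlatLib.mem_map_smul_of_exists T J he h3
      rw [← hcx] at h4
      have := Submodule.smul_mem _ ((c⁻¹ : Sˣ) : S) h4
      rwa [smul_smul, Units.inv_mul, one_smul] at this) Q'
  let g := AlgebraTensorModule.rTensor R Q (LocalizedModule.mkLinearMap T M)
  let Qp := Rp ⊗[R] Q
  let e : N ⊗[R] Q ≃ₗ[Rp] N ⊗[Rp] Qp := (AlgebraTensorModule.cancelBaseChange R Rp Rp N Q).symm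
  have hcomm : ∀ y : N ⊗[R] Q, e (algebraMap B S s • y) =
      ((LinearMap.lsmul S N (algebraMap B S s)).restrictScalars Rp).rTensor Qp (e y) := by
    intro y
    induction y using TensorProduct.induction_on with
    | zero => simp
    | tmul a b => rfl
    | add a b ha hb => rw [smul_add, map_add, map_add, map_add, ha, hb]
  have h0 : g z = 0 := by
    apply e.injective
    rw [map_zero]
    refine hinj Qp ?_
    rw [map_zero, ← hcomm, algebraMap_smul, ← map_smul, hz, map_zero, map_zero]
  obtain ⟨d, hd⟩ := (IsLocalizedModule.eq_zero_iff T g).mp h0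
  exact ⟨d.1, d.2, hd⟩

end Localized

section FiniteType

variable {R S N : Type u} [CommRing R] [CommRing S] [Algebra R S] [Algebra.FiniteType R S] [AddCommGroup N]
  [Module S N] [Module R N] [IsScalarTower R S N] [Module.Finite S N]

/-- An element regular on the fibre at a flat point is universally injective there. -/
theorem exists_smul_eq_zero_of_regular (q : Ideal S) [q.IsPrime] (hflat : FlatCA.FlatAt R q N) (p : Ideal R) [p.IsPrime]
    (hp : p = q.comap (algebraMap R S)) (s : S)
    (hs : ∀ x c, c ∉ q → c • s • x ∈ p.map (algebraMap R S) • (⊤ : Submodule S N) →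
      ∃ d ∉ q, d • x ∈ p.map (algebraMap R S) • (⊤ : Submodule S N))
    {Q : Type u} [AddCommGroup Q] [Module R Q] {z : N ⊗[R] Q} (hz : s • z = 0) : ∃ d ∉ q, d • z = 0 := by
  obtain ⟨n, π, hπ⟩ := Algebra.FiniteType.iff_quotient_mvPolynomial''.mp ‹Algebra.FiniteType R S›
  let P := MvPolynomial (Fin n) R
  letI : Algebra P S := π.toRingHom.toAlgebra
  haveI : IsScalarTower R P S := .of_algebraMap_eq fun r => (π.commutes r).symm
  letI : Module P N := Module.compHom N π.toRingHom
  haveI : IsScalarTower P S N := .of_algebraMap_smul fun _ _ => rfl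
  haveI : IsScalarTower R P N := .of_algebraMap_smul fun r m => by
    show π (algebraMap R P r) • m = r • m
    rw [π.commutes, algebraMap_smul]
  haveI : Module.Finite P S := Module.Finite.of_surjective (Algebra.linearMap P S) hπ
  haveI : Module.Finite P N := Module.Finite.trans S N
  let Q' : Ideal P := q.comap (algebraMap P S)
  have hT : Algebra.algebraMapSubmonoid S Q'.primeCompl = q.primeCompl := by
    ext x
    constructor
    · rintro ⟨y, hy, rfl⟩; exact hy
    · intro hx
      obtain ⟨y, rfl⟩ := hπ x
      exact ⟨y, hx, rfl⟩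
  haveI : IsLocalizedModule (Algebra.algebraMapSubmonoid S Q'.primeCompl)
      (LocalizedModule.mkLinearMap q.primeCompl N) := by
    rw [hT]; infer_instance
  let g : N →ₗ[P] LocalizedModule q.primeCompl N := (LocalizedModule.mkLinearMap q.primeCompl N).restrictScalars _
  haveI : IsLocalizedModule Q'.primeCompl g := IsLocalizedModule.restrictScalars _ _
  have hflat' : FlatCA.FlatAt R Q' N :=
    haveI : Module.Flat R (LocalizedModule q.primeCompl N) := hflat
    Module.Flat.of_linearEquiv ((IsLocalizedModule.iso Q'.primeCompl g).restrictScalars R)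
  haveI : Module.Flat R (LocalizedModule Q'.primeCompl N) := hflat'
  haveI := S1208.result (R := R) (S := P) N Q' hflat'
  obtain ⟨s', rfl⟩ := hπ s
  have hsmul : ∀ x : N, ∀ c : P, π c • x = c • x := fun _ _ => rfl
  have hmem : ∀ x : N, x ∈ p.map (algebraMap R P) • (⊤ : Submodule P N) ↔
      x ∈ p.map (algebraMap R S) • (⊤ : Submodule S N) := fun x =>
    (LocFlat.mem_smul_top_iff (R := R) (S := P) p x).symm.trans (LocFlat.mem_smul_top_iff (R := R) (S := S) p x)
  obtain ⟨d, hd, hdz⟩ := exists_smul_eq_zero_of_essFP (R := R) (B := P) (M := N) Q' p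
    (by rw [hp, Ideal.comap_comap, ← IsScalarTower.algebraMap_eq])
    ⟨P, inferInstance, inferInstance, inferInstance, inferInstance, Q'.primeCompl, inferInstance, inferInstance⟩ s'
    (fun x c hc hx => by
      obtain ⟨d, hd, hdx⟩ := hs x (π c) hc (by rw [hsmul, hsmul]; exact (hmem _).mp hx)
      obtain ⟨d, rfl⟩ := hπ d
      exact ⟨d, hd, (hmem _).mpr (by rwa [hsmul] at hdx)⟩)
    (z := z) (by rw [← algebraMap_smul S s' z]; exact hz)
  exact ⟨π d, hd, by rw [← hdz, ← algebraMap_smul S d z]; rfl⟩

/-- An element killed near every associated point of the fibre below a flat point is killed there. -/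
theorem exists_smul_eq_zero_of_assBelow (p : Ideal R) [p.IsPrime] (q : Ideal S) [q.IsPrime] [q.LiesOver p]
    (hflat : FlatCA.FlatAt R q N) {Q : Type u} [AddCommGroup Q] [Module R Q] {z : N ⊗[R] Q}
    (h : ∀ P ∈ assBelow p N q, ∃ t, CAlgFib.ι p t ∉ P ∧ t • z = 0) : ∃ d ∉ q, d • z = 0 := by
  obtain ⟨s, hsz, hs⟩ := exists_mem_regular p N q (LinearMap.ker (LinearMap.toSpanSingleton S _ z))
    fun P hP hle => by
      obtain ⟨t, ht, htz⟩ := h P hP
      exact ht (hle htz)
  exact exists_smul_eq_zero_of_regular q hflat p (Ideal.LiesOver.over (P := q)) s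
    (fun x c hc hx => regular_mod p N q hs x hc hx) hsz

end FiniteType

end Groth.Agent.FibAssLib
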