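import Groth.Agent.FibAssLib.Detect

/-!
# The local essentially finitely presented case
-/

set_option autoImplicit false
set_option linter.style.haveILetI false
set_option linter.unusedSectionVars false
set_option maxHeartbeats 1000000
set_option backward.isDefEq.respectTransparency false

universe u

open TensorProduct IsLocalRing

noncomputable section

namespace Groth.Agent.FibAssLib

variable {R S N : Type u} [CommRing R] [IsLocalRing R] [CommRing S] [IsLocalRing S] [Algebra R S]
  [IsLocalHom (algebraMap R S)] [AddCommGroup N] [Module S N] [Module R N] [IsScalarTower R S N]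
  [Module.FinitePresentation S N] [Module.Flat R N]

theorem essFiniteType_of_essFP (hS : FlatCA.EssFinitePresentation R S) : Algebra.EssFiniteType R S := by
  obtain ⟨S₀, _, _, _, _, T, _, _⟩ := hS
  haveI : Algebra.EssFiniteType S₀ S := Algebra.EssFiniteType.of_isLocalization S T
  exact Algebra.EssFiniteType.comp R S₀ S

/-- An element regular on the closed fibre module is universally injective. -/
theorem nzdFiber_univInj (hS : FlatCA.EssFinitePresentation R S) {s : S} (hs : s ∈ FlatCA.nzdFiber R S N)
    (Q : Type u) [AddCommGroup Q] [Module R Q] :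
    Function.Injective (((LinearMap.lsmul S N s).restrictScalars R).rTensor Q) := by
  refine smul_univInj_and_flat (isEssFP_of_essFP hS) s (fun x hx => ?_) Q
  have h0 : FlatCA.toFiberMod (S := S) (maximalIdeal R) (N := N) (s • x) = 0 :=
    (CAlgFib.toFiberMod_eq_zero_iff (maximalIdeal R) N _).mpr
      ⟨1, (Ideal.ne_top_iff_one _).mp (maximalIdeal.isMaximal R).ne_top, by rw [map_one, one_smul]; exact hx⟩
  rw [map_smul] at h0
  obtain ⟨r, hr, hrx⟩ := (CAlgFib.toFiberMod_eq_zero_iff (maximalIdeal R) N x).mp
    (mem_nonZeroSMulDivisors_iff.mp hs _ h0)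
  obtain ⟨w, hw⟩ := (IsLocalRing.notMem_maximalIdeal.mp hr).map (algebraMap R S)
  rw [← hw] at hrx
  have := Submodule.smul_mem _ ((w⁻¹ : Sˣ) : S) hrx
  rwa [smul_smul, Units.inv_mul, one_smul] at this

theorem liesOver_maximalIdeal : (maximalIdeal S).LiesOver (maximalIdeal R) :=
  ⟨Ideal.ext fun r => by rw [Ideal.mem_comap, mem_maximalIdeal, mem_maximalIdeal, map_mem_nonunits_iff]⟩

/-- Detection at the associated points of the closed fibre. -/
theorem eq_zero_of_ass_local (hS : FlatCA.EssFinitePresentation R S) {Q : Type u} [AddCommGroup Q] [Module R Q]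
    {z : N ⊗[R] Q}
    (h : ∀ P ∈ associatedPrimes ((maximalIdeal R).Fiber S) (FlatCA.fiberMod (maximalIdeal R) S N),
      ∃ t, CAlgFib.ι (maximalIdeal R) t ∉ P ∧ t • z = 0) : z = 0 := by
  haveI := essFiniteType_of_essFP hS
  haveI := liesOver_maximalIdeal (R := R) (S := S)
  obtain ⟨s, hsz, hs⟩ := exists_mem_regular (maximalIdeal R) N (maximalIdeal S)
    (LinearMap.ker (LinearMap.toSpanSingleton S _ z)) fun P hP hle => by
      obtain ⟨t, ht, htz⟩ := h P hP.1
      exact ht (hle htz)
  have hinj := smul_univInj_and_flat (isEssFP_of_essFP hS) s (fun x hx => by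
    obtain ⟨d, hd, hdx⟩ := regular_mod (maximalIdeal R) N (maximalIdeal S) hs x
      ((Ideal.ne_top_iff_one _).mp (maximalIdeal.isMaximal S).ne_top : (1 : S) ∉ maximalIdeal S) (by rwa [one_smul])
    obtain ⟨w, hw⟩ := IsLocalRing.notMem_maximalIdeal.mp hd
    rw [← hw] at hdx
    have := Submodule.smul_mem _ ((w⁻¹ : Sˣ) : S) hdx
    rwa [smul_smul, Units.inv_mul, one_smul] at this) Q
  refine hinj ?_
  rw [map_zero]
  refine Eq.trans ?_ (LinearMap.mem_ker.mp hsz)
  rw [LinearMap.toSpanSingleton_apply]
  clear hsz hs h hinj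
  induction z using TensorProduct.induction_on with
  | zero => simp
  | tmul n q => rfl
  | add a b ha hb => rw [map_add, smul_add, ha, hb]

theorem comap_mem_associatedPrimes {p : Ideal R} [p.IsPrime] {P : Ideal (p.Fiber S)}
    (hP : P ∈ associatedPrimes (p.Fiber S) (FlatCA.fiberMod p S N)) :
    P.comap (CAlgFib.ι p) ∈ associatedPrimes S (FlatCA.fiberMod p S N) := by
  obtain ⟨hPp, x, hx⟩ := hP
  refine ⟨hPp.comap _, x, ?_⟩
  rw [hx, Ideal.comap_radical]
  congr 1

end Groth.Agent.FibAssLib
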